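import Groth.Prelude.Def_W4c1liftfrobW2
import Mathlib.RingTheory.WittVector.Complete
import Mathlib.RingTheory.WittVector.DiscreteValuationRing
import Mathlib.RingTheory.Flat.EquationalCriterion
import Mathlib.Algebra.CharP.Lemmas
import Mathlib.FieldTheory.Perfect

/-!
# Liftings over `W₂(k)`: elementary reformulation

For `k` perfect, a lifting of a `k`-algebra `A` over `W₂(k)` is the same as a surjection
`π : B →+* A` with `ker π = (p)` and `ann p = ker π`; the structure map `W₂(k) → B` is unique.
-/

universe u v w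

open scoped Classical

namespace Groth.Agent.Lib.W2Lift.Basic

noncomputable section

variable {p : ℕ} [Fact p.Prime]

section ring

variable {A : Type u} [CommRing A]

theorem ext2 {x y : FrobAlg.W2 p A} (h0 : x.coeff 0 = y.coeff 0) (h1 : x.coeff 1 = y.coeff 1) :
    x = y :=
  TruncatedWittVector.ext (Fin.forall_fin_two.2 ⟨h0, h1⟩)

/-- Teichmüller representative in `W₂`. -/
def teich : A →* FrobAlg.W2 p A :=
  (WittVector.truncate 2).toMonoidHom.comp (WittVector.teichmuller p)

@[simp]
theorem teich_coeff_zero (a : A) : (teich (p := p) a).coeff 0 = a := by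
  simp [teich, WittVector.teichmuller_coeff_zero]

@[simp]
theorem teich_coeff_one (a : A) : (teich (p := p) a).coeff 1 = 0 := by
  simp [teich, WittVector.teichmuller_coeff_pos]

/-- The vector `(0, a)`. -/
def vv (a : A) : FrobAlg.W2 p A :=
  WittVector.truncate 2 (WittVector.verschiebung (WittVector.teichmuller p a))

theorem truncate_verschiebung (z : WittVector p A) :
    WittVector.truncate 2 (WittVector.verschiebung z) = vv (p := p) (z.coeff 0) := by
  apply ext2
  · simp [vv, WittVector.verschiebung_coeff_zero]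
  · simp [vv, WittVector.verschiebung_coeff_succ, WittVector.teichmuller_coeff_zero]

@[simp]
theorem vv_coeff_zero (a : A) : (vv (p := p) a).coeff 0 = 0 := by
  simp [vv, WittVector.verschiebung_coeff_zero]

@[simp]
theorem vv_coeff_one (a : A) : (vv (p := p) a).coeff 1 = a := by
  simp [vv, WittVector.verschiebung_coeff_succ, WittVector.teichmuller_coeff_zero]

theorem eq_vv {x : FrobAlg.W2 p A} (h : x.coeff 0 = 0) : x = vv (x.coeff 1) :=
  ext2 (by simp [h]) (by simp)

theorem constantCoeff_coe (x : WittVector p A) : WittVector.constantCoeff x = x.coeff 0 := rfl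

theorem vv_add (a b : A) : vv (p := p) (a + b) = vv a + vv b := by
  have h : (WittVector.teichmuller p a + WittVector.teichmuller p b).coeff 0 = a + b := by
    rw [← constantCoeff_coe, map_add, constantCoeff_coe, constantCoeff_coe,
      WittVector.teichmuller_coeff_zero, WittVector.teichmuller_coeff_zero]
  simp only [vv]
  rw [← map_add, ← map_add, truncate_verschiebung, truncate_verschiebung, h,
    WittVector.teichmuller_coeff_zero]

theorem frobenius_coeff_zero (hA : (p : A) = 0) (X : WittVector p A) :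
    (WittVector.frobenius X).coeff 0 = X.coeff 0 ^ p := by
  rcases subsingleton_or_nontrivial A with h | h
  · exact Subsingleton.elim _ _
  · have : CharP A p := (CharP.charP_iff_prime_eq_zero Fact.out).mpr hA
    exact WittVector.coeff_frobenius_charP p X 0

theorem mul_vv (hA : (p : A) = 0) (x : FrobAlg.W2 p A) (a : A) :
    x * vv a = vv (x.coeff 0 ^ p * a) := by
  obtain ⟨X, rfl⟩ := WittVector.truncate_surjective p 2 A x
  have h : (WittVector.teichmuller p a * WittVector.frobenius X).coeff 0 = X.coeff 0 ^ p * a := by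
    rw [WittVector.mul_coeff_zero, WittVector.teichmuller_coeff_zero, frobenius_coeff_zero hA,
      mul_comm]
  rw [WittVector.coeff_truncate]
  simp only [vv, Fin.val_zero]
  rw [← map_mul, mul_comm X, ← WittVector.verschiebung_mul_frobenius, truncate_verschiebung,
    truncate_verschiebung, h, WittVector.teichmuller_coeff_zero]

theorem p_mul (hA : (p : A) = 0) (x : FrobAlg.W2 p A) :
    (p : FrobAlg.W2 p A) * x = vv (x.coeff 0 ^ p) := by
  rcases subsingleton_or_nontrivial A with h | h
  · exact ext2 (Subsingleton.elim _ _) (Subsingleton.elim _ _)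
  · have : CharP A p := (CharP.charP_iff_prime_eq_zero Fact.out).mpr hA
    obtain ⟨X, rfl⟩ := WittVector.truncate_surjective p 2 A x
    rw [WittVector.coeff_truncate, ← map_natCast (WittVector.truncate (p := p) (R := A) 2) p,
      ← map_mul, mul_comm, ← WittVector.verschiebung_frobenius, truncate_verschiebung,
      frobenius_coeff_zero hA]
    rfl

theorem p_coeff_zero (hA : (p : A) = 0) : (p : FrobAlg.W2 p A).coeff 0 = 0 := by
  have h := map_natCast (FrobAlg.res p A) p
  rw [FrobAlg.res_apply] at h
  rw [h, hA]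

theorem p_mul_p (hA : (p : A) = 0) : (p : FrobAlg.W2 p A) * p = 0 := by
  rw [p_mul hA, p_coeff_zero hA, zero_pow (Fact.out : p.Prime).ne_zero]
  exact ext2 (by simp) (by simp)

theorem exists_eq_teich_add_p_mul (hA : (p : A) = 0)
    (hroot : Function.Surjective fun a : A => a ^ p) (x : FrobAlg.W2 p A) :
    ∃ b, x = teich (x.coeff 0) + (p : FrobAlg.W2 p A) * teich b := by
  have h0 : (x - teich (x.coeff 0)).coeff 0 = 0 := by
    rw [← FrobAlg.res_apply, map_sub, FrobAlg.res_apply, FrobAlg.res_apply, teich_coeff_zero,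
      sub_self]
  obtain ⟨b, hb : b ^ p = _⟩ := hroot ((x - teich (x.coeff 0)).coeff 1)
  refine ⟨b, ?_⟩
  rw [p_mul hA, teich_coeff_zero, hb, ← eq_vv h0]
  ring

end ring

section perfect

variable {k : Type u} [CommRing k] [CharP k p] [PerfectRing k p]

theorem pow_p_surjective : Function.Surjective fun a : k => a ^ p :=
  (PerfectRing.bijective_frobenius (R := k) (p := p)).2

theorem mem_span_p_iff (x : FrobAlg.W2 p k) :
    x ∈ Ideal.span {(p : FrobAlg.W2 p k)} ↔ x.coeff 0 = 0 := by
  have hk : (p : k) = 0 := CharP.cast_eq_zero k p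
  constructor
  · intro h
    obtain ⟨c, rfl⟩ := Ideal.mem_span_singleton'.1 h
    rw [mul_comm, p_mul hk, vv_coeff_zero]
  · intro h
    obtain ⟨b, hb : b ^ p = _⟩ := pow_p_surjective (p := p) (x.coeff 1)
    refine Ideal.mem_span_singleton'.2 ⟨teich b, ?_⟩
    rw [mul_comm, p_mul hk, teich_coeff_zero, hb, ← eq_vv h]

theorem ker_res : RingHom.ker (FrobAlg.res p k) = Ideal.span {(p : FrobAlg.W2 p k)} := by
  ext x
  rw [RingHom.mem_ker, FrobAlg.res_apply, mem_span_p_iff]

end perfect

section field

variable {k : Type u} [Field k] [CharP k p] [PerfectRing k p]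

theorem isUnit_of_coeff_zero_ne_zero (x : FrobAlg.W2 p k) (h : x.coeff 0 ≠ 0) : IsUnit x := by
  obtain ⟨X, rfl⟩ := WittVector.truncate_surjective p 2 k x
  rw [WittVector.coeff_truncate] at h
  exact (WittVector.isUnit_of_coeff_zero_ne_zero X h).map (WittVector.truncate 2)

theorem p_mul_eq_zero_iff (x : FrobAlg.W2 p k) :
    (p : FrobAlg.W2 p k) * x = 0 ↔ x.coeff 0 = 0 := by
  rw [p_mul (CharP.cast_eq_zero k p)]
  constructor
  · intro h
    have := congrArg (TruncatedWittVector.coeff 1) h
    simpa [(Fact.out : p.Prime).ne_zero] using this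
  · intro h
    rw [h, zero_pow (Fact.out : p.Prime).ne_zero]
    exact ext2 (by simp) (by simp)

/-- Flatness over `W₂(k)`: the `p`-torsion consists of multiples of `p`. -/
theorem flat_iff (M : Type v) [AddCommGroup M] [Module (FrobAlg.W2 p k) M] :
    Module.Flat (FrobAlg.W2 p k) M ↔
      ∀ m : M, (p : FrobAlg.W2 p k) • m = 0 → ∃ m' : M, m = (p : FrobAlg.W2 p k) • m' := by
  constructor
  · intro hflat m hm
    have h := Module.Flat.isTrivialRelation_of_sum_smul_eq_zero (R := FrobAlg.W2 p k) (M := M) (ι := PUnit.{1})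
      (f := fun _ => (p : FrobAlg.W2 p k)) (x := fun _ => m) (by simpa using hm)
    obtain ⟨κ, a, y, hy, ha⟩ := h
    have hmem : ∀ j, ∃ c, a PUnit.unit j = c * (p : FrobAlg.W2 p k) := by
      intro j
      have := ha j
      simp only [Finset.univ_unique, Finset.sum_singleton] at this
      obtain ⟨c, hc⟩ := Ideal.mem_span_singleton'.1 ((mem_span_p_iff _).2
        ((p_mul_eq_zero_iff _).1 this))
      exact ⟨c, hc.symm⟩
    choose c hc using hmem
    have hy' : m = ∑ j, a PUnit.unit j • y j := hy PUnit.unit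
    refine ⟨∑ j, c j • y j, ?_⟩
    rw [hy', Finset.smul_sum]
    refine Finset.sum_congr rfl fun j _ => ?_
    rw [hc j, mul_comm, mul_smul]
  · intro h
    rw [Module.Flat.iff_rTensor_injective']
    intro I
    by_cases hI : ∀ x ∈ I, x.coeff 0 = 0
    · have hIp : I ≤ Ideal.span {(p : FrobAlg.W2 p k)} := fun x hx => (mem_span_p_iff x).2 (hI x hx)
      by_cases hI0 : I = ⊥
      · subst hI0
        intro a b _
        exact Subsingleton.elim a b
      · have hIeq : I = Ideal.span {(p : FrobAlg.W2 p k)} := by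
          refine le_antisymm hIp ((Ideal.span_singleton_le_iff_mem I).2 ?_)
          obtain ⟨x, hx, hx0⟩ := Submodule.exists_mem_ne_zero_of_ne_bot hI0
          obtain ⟨c, rfl⟩ := Ideal.mem_span_singleton'.1 (hIp hx)
          have hc : c.coeff 0 ≠ 0 := fun hc0 =>
            hx0 (by rw [mul_comm]; exact (p_mul_eq_zero_iff c).2 hc0)
          obtain ⟨u, hu⟩ := isUnit_of_coeff_zero_ne_zero c hc
          have := I.mul_mem_left (↑u⁻¹ : FrobAlg.W2 p k) hx
          rwa [← hu, ← mul_assoc, Units.inv_mul, one_mul] at this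
        let g : M →ₗ[FrobAlg.W2 p k] TensorProduct (FrobAlg.W2 p k) I M :=
          TensorProduct.mk _ _ _ ⟨(p : FrobAlg.W2 p k),
            by rw [hIeq]; exact Ideal.subset_span rfl⟩
        have hg : Function.Surjective g := by
          intro z
          induction z with
          | zero => exact ⟨0, map_zero _⟩
          | add a b ha hb =>
            obtain ⟨a', rfl⟩ := ha; obtain ⟨b', rfl⟩ := hb
            exact ⟨a' + b', map_add _ _ _⟩
          | tmul i m =>
            obtain ⟨c, hc⟩ := Ideal.mem_span_singleton'.1 (hIp i.2)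
            refine ⟨c • m, ?_⟩
            have : i = c • (⟨(p : FrobAlg.W2 p k),
                by rw [hIeq]; exact Ideal.subset_span rfl⟩ : I) := Subtype.ext hc.symm
            rw [this, TensorProduct.smul_tmul]
            rfl
        rw [injective_iff_map_eq_zero]
        intro z hz
        obtain ⟨m, rfl⟩ := hg z
        have hm : (p : FrobAlg.W2 p k) • m = 0 := by
          have := congrArg (TensorProduct.lid (FrobAlg.W2 p k) M) hz
          simpa [g] using this
        obtain ⟨m', rfl⟩ := h m hm
        change (⟨(p : FrobAlg.W2 p k), _⟩ : I) ⊗ₜ[FrobAlg.W2 p k] ((p : FrobAlg.W2 p k) • m') = 0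
        rw [← TensorProduct.smul_tmul]
        have : ∀ hpI, (p : FrobAlg.W2 p k) • (⟨(p : FrobAlg.W2 p k), hpI⟩ : I) = 0 := fun _ =>
          Subtype.ext (p_mul_p (CharP.cast_eq_zero k p))
        rw [this, TensorProduct.zero_tmul]
    · push Not at hI
      obtain ⟨x, hx, hx0⟩ := hI
      have htop : I = ⊤ := Ideal.eq_top_of_isUnit_mem I hx (isUnit_of_coeff_zero_ne_zero x hx0)
      subst htop
      exact ((LinearEquiv.ofTop (⊤ : Ideal (FrobAlg.W2 p k)) rfl).rTensor M).injective

end field

section ext

variable {A : Type u} [CommRing A] {B : Type v} [CommRing B]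

/-- `π : B → A` is the reduction modulo `p` of a flat `ℤ/p²`-lifting: it is surjective,
`ker π = (p)` and the annihilator of `p` is `ker π`. -/
structure IsExt (p : ℕ) (π : B →+* A) : Prop where
  surj : Function.Surjective π
  ker_eq : RingHom.ker π = Ideal.span {(p : B)}
  ann : ∀ b : B, (p : B) * b = 0 ↔ π b = 0

variable {π : B →+* A}

theorem IsExt.map_p (h : IsExt p π) : (p : A) = 0 := by
  rw [← map_natCast π p, ← RingHom.mem_ker, h.ker_eq]
  exact Ideal.subset_span rfl

theorem IsExt.exists_eq_mul (h : IsExt p π) {b : B} (hb : π b = 0) : ∃ c, b = (p : B) * c := by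
  rw [← RingHom.mem_ker, h.ker_eq, Ideal.mem_span_singleton] at hb
  exact hb

theorem IsExt.map_p_mul (h : IsExt p π) (c : B) : π ((p : B) * c) = 0 := by
  rw [map_mul, map_natCast, h.map_p, zero_mul]

theorem IsExt.mul_eq_zero (h : IsExt p π) {x y : B} (hx : π x = 0) (hy : π y = 0) : x * y = 0 := by
  obtain ⟨b, rfl⟩ := h.exists_eq_mul hx
  rw [mul_assoc, (h.ann _).2 (by rw [map_mul, hy, mul_zero])]

theorem IsExt.p_mul_congr (h : IsExt p π) {x y : B} (hxy : π x = π y) :
    (p : B) * x = (p : B) * y := by
  rw [← sub_eq_zero, ← mul_sub, h.ann, map_sub, hxy, sub_self]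

theorem IsExt.p_mul_inj (h : IsExt p π) {x y : B} (hxy : (p : B) * x = (p : B) * y) :
    π x = π y := by
  rw [← sub_eq_zero, ← map_sub, ← h.ann, mul_sub, hxy, sub_self]

theorem IsExt.pow_congr (h : IsExt p π) {x y : B} (hxy : π x = π y) : x ^ p = y ^ p := by
  rw [← sub_eq_zero, ← geom_sum₂_mul x y p]
  refine h.mul_eq_zero ?_ (by rw [map_sub, hxy, sub_self])
  rw [map_sum]
  simp only [map_mul, map_pow, hxy]
  rw [geom_sum₂_self, h.map_p, zero_mul]

theorem ghostComponent_one (X : WittVector p B) :
    WittVector.ghostComponent 1 X = X.coeff 0 ^ p + (p : B) * X.coeff 1 := by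
  rw [WittVector.ghostComponent_apply, wittPolynomial_one]
  simp [add_comm]

/-- The map `W₂(A) → B`, `(a₀, a₁) ↦ ã₀^p + p ã₁`. -/
def theta (h : IsExt p π) : FrobAlg.W2 p A →+* B :=
  RingHom.liftOfSurjective ((WittVector.truncate 2).comp (WittVector.map π))
    ((WittVector.truncate_surjective p 2 A).comp (WittVector.map_surjective π h.surj))
    ⟨WittVector.ghostComponent 1, fun X hX => by
      rw [RingHom.mem_ker] at hX ⊢
      have h0 := congrArg (TruncatedWittVector.coeff 0) hX
      have h1 := congrArg (TruncatedWittVector.coeff 1) hX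
      simp [WittVector.map_coeff] at h0 h1
      rw [ghostComponent_one, h.pow_congr (h0.trans (map_zero π).symm), (h.ann _).2 h1,
        zero_pow (Fact.out : p.Prime).ne_zero, add_zero]⟩

theorem theta_spec (h : IsExt p π) (x : FrobAlg.W2 p A) (b0 b1 : B) (h0 : π b0 = x.coeff 0)
    (h1 : π b1 = x.coeff 1) : theta h x = b0 ^ p + (p : B) * b1 := by
  let X : WittVector p B :=
    WittVector.mk p fun n => if n = 0 then b0 else if n = 1 then b1 else 0
  have hX : ((WittVector.truncate 2).comp (WittVector.map π)) X = x := by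
    apply ext2 <;> simp [X, WittVector.map_coeff, h0, h1]
  have hlift : theta h (((WittVector.truncate 2).comp (WittVector.map π)) X) =
      WittVector.ghostComponent 1 X := RingHom.liftOfRightInverse_comp_apply _ _ _ _ X
  rw [← hX, hlift, ghostComponent_one]
  simp [X]

theorem map_theta (h : IsExt p π) (x : FrobAlg.W2 p A) : π (theta h x) = x.coeff 0 ^ p := by
  obtain ⟨b0, hb0⟩ := h.surj (x.coeff 0)
  obtain ⟨b1, hb1⟩ := h.surj (x.coeff 1)
  rw [theta_spec h x b0 b1 hb0 hb1, map_add, h.map_p_mul, add_zero, map_pow, hb0]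

/-- A ring map to `W₂(A)` is determined by the residue and `theta`. -/
theorem eq_of_coeff_zero_of_theta (h : IsExt p π) {x y : FrobAlg.W2 p A}
    (h0 : x.coeff 0 = y.coeff 0) (hθ : theta h x = theta h y) : x = y := by
  obtain ⟨b0, hb0⟩ := h.surj (x.coeff 0)
  obtain ⟨b1, hb1⟩ := h.surj (x.coeff 1)
  obtain ⟨c1, hc1⟩ := h.surj (y.coeff 1)
  rw [theta_spec h x b0 b1 hb0 hb1, theta_spec h y b0 c1 (hb0.trans h0) hc1, add_right_inj] at hθ
  exact ext2 h0 (by rw [← hb1, ← hc1, h.p_mul_inj hθ])

/-- A morphism of liftings of the same algebra is bijective. -/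
theorem IsExt.bijective_of_comp_eq {B' : Type w} [CommRing B'] {π' : B' →+* A}
    (h : IsExt p π) (h' : IsExt p π') (f : B →+* B') (hf : π'.comp f = π) :
    Function.Bijective f := by
  have hf' : ∀ b, π' (f b) = π b := fun b => congrArg (fun g : B →+* A => g b) hf
  constructor
  · rw [injective_iff_map_eq_zero]
    intro b hb
    obtain ⟨c, rfl⟩ := h.exists_eq_mul (b := b) (by rw [← hf', hb, map_zero])
    rw [map_mul, map_natCast, h'.ann, hf'] at hb
    exact (h.ann _).2 hb
  · intro b'
    obtain ⟨b, hb⟩ := h.surj (π' b')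
    obtain ⟨c', hc'⟩ := h'.exists_eq_mul (b := b' - f b) (by rw [map_sub, hf', hb, sub_self])
    obtain ⟨c, hc⟩ := h.surj (π' c')
    refine ⟨b + (p : B) * c, ?_⟩
    rw [map_add, map_mul, map_natCast, h'.p_mul_congr (x := f c) (y := c') (by rw [hf', hc]), ← hc',
      add_sub_cancel]

end ext

section structureMap

variable {k : Type u} [Field k] [CharP k p] [PerfectRing k p]
variable {A : Type v} [CommRing A] [Algebra k A] {B : Type w} [CommRing B] {π : B →+* A}

/-- The structure map `W₂(k) → B` of a lifting. -/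
def iota (h : IsExt p π) : FrobAlg.W2 p k →+* B :=
  (theta h).comp (WittGrp.truncMap p 2
    ((algebraMap k A).comp (frobeniusEquiv k p).symm.toRingHom))

theorem map_iota (h : IsExt p π) :
    π.comp (iota h) = (algebraMap k A).comp (FrobAlg.res p k) := by
  ext x
  change π (theta h _) = algebraMap k A (FrobAlg.res p k x)
  rw [map_theta, WittGrp.coeff_truncMap, FrobAlg.res_apply]
  simp only [RingHom.comp_apply, RingEquiv.toRingHom_eq_coe, RingHom.coe_coe, ← map_pow, frobeniusEquiv_symm_pow,
    frobeniusEquiv_symm_pow_p]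

theorem hom_ext {f g : FrobAlg.W2 p k →+* B} (h : ∀ a : k, f (teich a) = g (teich a)) : f = g := by
  ext x
  obtain ⟨b, hb⟩ :=
    exists_eq_teich_add_p_mul (CharP.cast_eq_zero k p) (pow_p_surjective (p := p)) x
  rw [hb, map_add, map_add, map_mul, map_mul, map_natCast, map_natCast, h, h]

theorem eq_iota (h : IsExt p π) (f : FrobAlg.W2 p k →+* B)
    (hf : π.comp f = (algebraMap k A).comp (FrobAlg.res p k)) : f = iota h := by
  refine hom_ext fun a => ?_
  obtain ⟨c, hc⟩ := pow_p_surjective (k := k) (p := p) a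
  have hc' : c ^ p = a := hc
  have hsymm : (frobeniusEquiv k p).symm a = c := by
    rw [← hc']; exact frobeniusEquiv_symm_pow k p c
  have hπ : π (f (teich c)) = algebraMap k A c := by
    have := congrArg (fun g : FrobAlg.W2 p k →+* A => g (teich c)) hf
    simpa using this
  change f (teich a) = theta h _
  rw [theta_spec h _ (f (teich c)) 0 ?_ ?_]
  · rw [mul_zero, add_zero, ← map_pow, ← map_pow, hc']
  · simp [hπ, hsymm]
  · simp

variable (k)

theorem isLift_iff {A B : Type v} [CommRing A] [Algebra k A] [CommRing B]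
    (ι : FrobAlg.W2 p k →+* B) (π : B →+* A) :
    FrobAlg.IsLift p k A B ι π ↔
      IsExt p π ∧ π.comp ι = (algebraMap k A).comp (FrobAlg.res p k) := by
  have hmap : Ideal.map ι (RingHom.ker (FrobAlg.res p k)) = Ideal.span {(p : B)} := by
    rw [ker_res, Ideal.map_span, Set.image_singleton, map_natCast]
  have hflat : ι.Flat ↔ ∀ b : B, (p : B) * b = 0 → ∃ c, b = (p : B) * c := by
    letI := ι.toAlgebra
    change Module.Flat (FrobAlg.W2 p k) B ↔ _
    rw [flat_iff]
    simp only [Algebra.smul_def, map_natCast]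
  constructor
  · rintro ⟨hfl, hsurj, hker, hcomm⟩
    rw [hmap] at hker
    refine ⟨⟨hsurj, hker, fun b => ?_⟩, hcomm⟩
    rw [← RingHom.mem_ker, hker, Ideal.mem_span_singleton]
    constructor
    · exact fun hb => hflat.1 hfl b hb
    · rintro ⟨c, rfl⟩
      have hpp : (p : B) * p = 0 := by
        rw [← map_natCast ι p, ← map_mul, p_mul_p (CharP.cast_eq_zero k p), map_zero]
      rw [← mul_assoc, hpp, zero_mul]
  · rintro ⟨h, hcomm⟩
    exact ⟨hflat.2 fun b hb => h.exists_eq_mul ((h.ann b).1 hb), h.surj, h.ker_eq.trans hmap.symm,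
      hcomm⟩

theorem isExt_of_isLift {A B : Type v} [CommRing A] [Algebra k A] [CommRing B]
    {ι : FrobAlg.W2 p k →+* B} {π : B →+* A} (h : FrobAlg.IsLift p k A B ι π) : IsExt p π :=
  ((isLift_iff k ι π).1 h).1

theorem isW2Liftable_of_isExt {A B : Type v} [CommRing A] [Algebra k A] [CommRing B]
    {π : B →+* A} (h : IsExt p π) : FrobAlg.IsW2Liftable p k A :=
  ⟨B, inferInstance, iota h, π, (isLift_iff k _ π).2 ⟨h, map_iota h⟩⟩

end structureMap

end

end Groth.Agent.Lib.W2Lift.Basic
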