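import Groth.Agent.Lib.W2Lift.Basic
import Mathlib.Algebra.MvPolynomial.PDeriv
import Mathlib.Algebra.MvPolynomial.Basic
import Mathlib.Algebra.Polynomial.Coeff

namespace Groth.Agent.Lib.W2Lift.Quadric

open MvPolynomial

universe u

noncomputable section

variable {p : ℕ} [Fact p.Prime]

theorem exists_sum_pow_eq {R : Type*} [CommRing R] {ι : Type*} (s : Finset ι) (f : ι → R) :
    ∃ c, (∑ i ∈ s, f i) ^ p = ∑ i ∈ s, f i ^ p + (p : R) * c := by
  classical
  induction s using Finset.induction_on with
  | empty => exact ⟨0, by simp [(Fact.out : p.Prime).ne_zero]⟩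
  | insert a s ha ih =>
    obtain ⟨c, hc⟩ := ih
    obtain ⟨r, hr⟩ := exists_add_pow_prime_eq (R := R) (Fact.out : p.Prime) (f a) (∑ i ∈ s, f i)
    refine ⟨c + f a * (∑ i ∈ s, f i) * r, ?_⟩
    rw [Finset.sum_insert ha, Finset.sum_insert ha, hr, hc]
    ring

/-- The values of the products `xᵢ yᵢ`. -/
def vals (R : Type*) [CommRing R] {n : ℕ} (i : Fin n) : MvPolynomial (Fin 2) R :=
  if i.val = 0 then X 0 else if i.val = 1 then X 1 else if i.val = 2 then -(X 0 + X 1) else 0

theorem sum_vals_pow (R : Type*) [CommRing R] (m d : ℕ) (hd : d ≠ 0) :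
    ∑ i : Fin (m + 3), vals R i ^ d = X 0 ^ d + X 1 ^ d + (-(X 0 + X 1)) ^ d := by
  simp [Fin.sum_univ_succ, vals, hd, add_assoc]

theorem sum_vals (R : Type*) [CommRing R] (m : ℕ) : ∑ i : Fin (m + 3), vals R i = 0 := by
  have := sum_vals_pow R m 1 one_ne_zero
  simp only [pow_one] at this
  rw [this, add_neg_cancel]

variable (k : Type u) [Field k] [CharP k p]

/-- `f ↦` coefficient of `z₀^(p-1)` in `∂f/∂z₁ (z₀, 0)`. -/
def functional : MvPolynomial (Fin 2) k →ₗ[k] k :=
  (Polynomial.lcoeff k (p - 1)).comp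
    ((MvPolynomial.aeval ![Polynomial.X, 0]).toLinearMap.comp (pderiv (1 : Fin 2)).toLinearMap)

theorem functional_mul_vals_pow {n : ℕ} (i : Fin n) (g : MvPolynomial (Fin 2) k) :
    functional (p := p) k (vals k i ^ p * g) = 0 := by
  have hp : (p : MvPolynomial (Fin 2) k) = 0 := CharP.cast_eq_zero _ _
  have key : ∀ (j : Fin 2) g, functional (p := p) k (X j ^ p * g) = 0 := by
    intro j g
    have hpos := (Fact.out : p.Prime).pos
    fin_cases j
    · simp [functional, pderiv_pow, hp, Polynomial.coeff_X_pow_mul', Nat.not_le.2 (Nat.sub_lt hpos one_pos)]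
    · simp [functional, pderiv_pow, hp, zero_pow (Fact.out : p.Prime).ne_zero]
  unfold vals
  split_ifs
  · exact key 0 g
  · exact key 1 g
  · rw [← neg_one_mul, mul_pow, add_pow_char, mul_assoc, add_mul, mul_add, map_add, mul_left_comm,
      key, mul_left_comm, key, add_zero]
  · simp [zero_pow (Fact.out : p.Prime).ne_zero]

open scoped Classical in
/-- Balanced monomials go to the product of the values, the others to `0`. -/
def balanced (n : ℕ) : MvPolynomial (Fin n × Fin 2) k →ₗ[k] MvPolynomial (Fin 2) k :=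
  (MvPolynomial.basisMonomials (Fin n × Fin 2) k).constr k fun e =>
    if ∀ i, e (i, (0 : Fin 2)) = e (i, 1) then ∏ i, vals k i ^ e (i, (0 : Fin 2)) else 0

open scoped Classical in
theorem balanced_monomial {n : ℕ} (e : (Fin n × Fin 2) →₀ ℕ) (a : k) :
    balanced k n (monomial e a) =
      a • if ∀ i, e (i, (0 : Fin 2)) = e (i, 1) then ∏ i, vals k i ^ e (i, (0 : Fin 2)) else 0 := by
  have h : monomial e a = a • MvPolynomial.basisMonomials (Fin n × Fin 2) k e := by
    rw [MvPolynomial.coe_basisMonomials, smul_monomial, smul_eq_mul, mul_one]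
  rw [h, map_smul, balanced, Module.Basis.constr_basis]

theorem balanced_mul_pair {n : ℕ} (f : MvPolynomial (Fin n × Fin 2) k) (i : Fin n) :
    balanced k n (f * (X (i, 0) * X (i, 1))) = balanced k n f * vals k i := by
  classical
  induction f using MvPolynomial.induction_on' with
  | add f g hf hg => simp only [add_mul, map_add, hf, hg]
  | monomial e a =>
    simp only [X, monomial_mul, mul_one, balanced_monomial, smul_mul_assoc, ite_mul, zero_mul]
    congr 1
    have hiff : ∀ j, (e + (Finsupp.single (i, (0 : Fin 2)) 1 + Finsupp.single (i, (1 : Fin 2)) 1) : _ →₀ ℕ) (j, (0 : Fin 2))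
        = e (j, (0 : Fin 2)) + (if i = j then 1 else 0) ∧
      (e + (Finsupp.single (i, (0 : Fin 2)) 1 + Finsupp.single (i, (1 : Fin 2)) 1) : _ →₀ ℕ) (j, (1 : Fin 2))
        = e (j, (1 : Fin 2)) + (if i = j then 1 else 0) := fun j => by
      simp [Finsupp.single_apply]
    simp only [(hiff _).1, (hiff _).2, add_left_inj, pow_add, Finset.prod_mul_distrib]
    split_ifs with h
    · congr 1
      rw [Finset.prod_eq_single i] <;> simp +contextual [eq_comm]
    · rfl

theorem balanced_aeval {n : ℕ} (P : MvPolynomial (Fin n) k) :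
    balanced k n (aeval (fun i => X (i, (0 : Fin 2)) * X (i, 1)) P) = aeval (vals k) P := by
  induction P using MvPolynomial.induction_on with
  | C a =>
    classical
    rw [aeval_C, aeval_C, MvPolynomial.algebraMap_eq, MvPolynomial.algebraMap_eq,
      C_apply, balanced_monomial]
    simp [smul_eq_C_mul]
  | add f g hf hg => rw [map_add, map_add, map_add, hf, hg]
  | mul_X f i hf => simp only [map_mul, aeval_X]; rw [balanced_mul_pair, hf]

/-- The ideal of the quadric neighbourhood. -/
def ideal (p n : ℕ) : Ideal (MvPolynomial (Fin n × Fin 2) k) :=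
  Ideal.span (insert (∑ i : Fin n, X (i, (0 : Fin 2)) * X (i, (1 : Fin 2)))
    (Set.range fun v : Fin n × Fin 2 => (X v : MvPolynomial (Fin n × Fin 2) k) ^ p))

theorem functional_balanced_eq_zero (m : ℕ) {f : MvPolynomial (Fin (m + 3) × Fin 2) k}
    (hf : f ∈ ideal k p (m + 3)) : functional (p := p) k (balanced k (m + 3) f) = 0 := by
  classical
  suffices ∀ g, functional (p := p) k (balanced k (m + 3) (g * f)) = 0 by simpa using this 1
  induction hf using Submodule.span_induction with
  | zero => simp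
  | add x y _ _ hx hy => intro g; simp [mul_add, hx, hy]
  | smul a x _ hx => intro g; rw [smul_eq_mul, ← mul_assoc]; exact hx _
  | mem x hx =>
    intro g
    rcases hx with rfl | ⟨⟨i, t⟩, rfl⟩
    · rw [Finset.mul_sum, map_sum]
      simp only [balanced_mul_pair]
      rw [← Finset.mul_sum, sum_vals, mul_zero, map_zero]
    · induction g using MvPolynomial.induction_on' with
      | add a b ha hb => simp [add_mul, ha, hb]
      | monomial e a =>
        dsimp only
        rw [X_pow_eq_monomial, monomial_mul, mul_one, balanced_monomial, map_smul]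
        split_ifs with h
        · have hle : p ≤ (e + Finsupp.single (i, t) p : _ →₀ ℕ) (i, (0 : Fin 2)) := by
            have := h i
            fin_cases t <;> simp at this ⊢; omega
          rw [← Finset.mul_prod_erase Finset.univ _ (Finset.mem_univ i), ← Nat.add_sub_of_le hle,
            pow_add, mul_assoc, functional_mul_vals_pow, smul_zero]
        · rw [map_zero, smul_zero]

theorem not_isW2Liftable [PerfectRing k p] (n : ℕ) (hn : 3 ≤ n) :
    ¬ FrobAlg.IsW2Liftable p k (MvPolynomial (Fin n × Fin 2) k ⧸ ideal k p n) := by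
  obtain ⟨m, rfl⟩ : ∃ m, n = m + 3 := ⟨n - 3, by omega⟩
  rintro ⟨B, _, ι, π, hlift⟩
  have h := Basic.isExt_of_isLift k hlift
  set mk := Ideal.Quotient.mk (ideal k p (m + 3)) with hmk
  choose T hT using fun v => h.surj (mk (X v))
  obtain ⟨C0, hC⟩ := exists_sum_pow_eq (p := p) (Finset.univ (α := Fin (m + 3)))
    (fun i => (X i : MvPolynomial (Fin (m + 3)) ℤ))
  have hpp : ∀ {x : B}, π x = 0 → x ^ p = 0 := fun {x} hx => by
    rw [← h.pow_congr (x := 0) (y := x) (by rw [map_zero, hx]), zero_pow (Fact.out : p.Prime).ne_zero]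
  have hxp : ∀ v, π (T v ^ p) = 0 := fun v => by
    rw [map_pow, hT, ← map_pow, Ideal.Quotient.eq_zero_iff_mem]
    exact Ideal.subset_span (Or.inr ⟨v, rfl⟩)
  have hzero : π (aeval (fun i => T (i, 0) * T (i, 1)) C0) = 0 := by
    have h1 := congrArg (aeval fun i => T (i, 0) * T (i, 1)) hC
    simp only [map_pow, map_sum, map_add, map_mul, map_natCast, aeval_X] at h1
    have h2 : (∑ i, T (i, 0) * T (i, 1)) ^ p = 0 := hpp (by
      simp only [map_sum, map_mul, hT]
      simp only [← map_mul, ← map_sum, hmk, Ideal.Quotient.eq_zero_iff_mem]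
      exact Ideal.subset_span (Or.inl rfl))
    have h3 : ∀ i, (T (i, 0) * T (i, 1)) ^ p = 0 := fun i => by
      rw [mul_pow]; exact h.mul_eq_zero (hxp _) (hxp _)
    rw [h2, Finset.sum_eq_zero (fun i _ => h3 i), zero_add] at h1
    exact (h.ann _).1 h1.symm
  have hmem : aeval (fun i => X (i, (0 : Fin 2)) * X (i, 1)) (map (Int.castRingHom k) C0) ∈
      ideal k p (m + 3) := by
    rw [← Ideal.Quotient.eq_zero_iff_mem, ← hmk, ← hzero]
    rw [aeval_def, eval₂_map]
    change ((mk.comp (eval₂Hom _ _)) C0) = ((π.comp (eval₂Hom _ _)) C0)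
    congr 1
    exact ringHom_ext (fun a => by simp) (fun i => by simp [hT])
  have h0 := functional_balanced_eq_zero k m hmem
  rw [balanced_aeval] at h0
  let D : MvPolynomial (Fin 2) ℤ := aeval (vals ℤ) C0
  have hD : (p : MvPolynomial (Fin 2) ℤ) * D = -(X 0 ^ p + X 1 ^ p + (-(X 0 + X 1)) ^ p) := by
    have h1 := congrArg (aeval (vals ℤ (n := m + 3))) hC
    simp only [map_pow, map_sum, map_add, map_mul, map_natCast, aeval_X, sum_vals,
      zero_pow (Fact.out : p.Prime).ne_zero, sum_vals_pow ℤ m p (Fact.out : p.Prime).ne_zero] at h1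
    rw [eq_neg_iff_add_eq_zero, add_comm]
    exact h1.symm
  have hD' : ((aeval ![(Polynomial.X : Polynomial ℤ), 0]) (pderiv (1 : Fin 2) D)).coeff (p - 1) =
      (-1) ^ (p + 1) := by
    have h1 := congrArg (fun f => ((aeval ![(Polynomial.X : Polynomial ℤ), 0]) (pderiv (1 : Fin 2) f)).coeff (p - 1)) hD
    have hp1 : (-Polynomial.X : Polynomial ℤ) ^ (p - 1) = Polynomial.C ((-1 : ℤ) ^ (p - 1)) * Polynomial.X ^ (p - 1) := by
      rw [neg_pow]; simp
    have hnat : ∀ f : MvPolynomial (Fin 2) ℤ, pderiv (1 : Fin 2) ((p : MvPolynomial (Fin 2) ℤ) * f) =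
        p • pderiv (1 : Fin 2) f := fun f => by rw [← nsmul_eq_mul, map_nsmul]
    simp only [hnat, map_nsmul, Polynomial.coeff_smul, map_neg, map_add, pderiv_pow, pderiv_X_self,
      pderiv_X_of_ne (zero_ne_one : (0 : Fin 2) ≠ 1), mul_zero, zero_add, map_mul, map_natCast, map_pow, aeval_X,
      Matrix.cons_val_zero, Matrix.cons_val_one, add_zero, mul_one, map_one, Polynomial.coeff_neg,
      Polynomial.coeff_add, Polynomial.coeff_natCast_mul, hp1, Polynomial.coeff_C_mul,
      Polynomial.coeff_X_pow_self, zero_pow (Nat.sub_ne_zero_of_lt (Fact.out : p.Prime).one_lt),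
      mul_neg, Polynomial.coeff_zero, nsmul_eq_mul] at h1
    have hpar : ((-1 : ℤ)) ^ (p + 1) = (-1) ^ (p - 1) := by
      have : p + 1 = p - 1 + 2 := by have := (Fact.out : p.Prime).one_lt; omega
      rw [this, pow_add]; simp
    have hne : (p : ℤ) ≠ 0 := by exact_mod_cast (Fact.out : p.Prime).ne_zero
    rw [hpar]
    rw [show ((-1 : Polynomial ℤ)) ^ (p - 1) = Polynomial.C ((-1 : ℤ) ^ (p - 1)) by simp,
      Polynomial.coeff_C_mul, Polynomial.coeff_X_pow_self] at h1
    exact mul_left_cancel₀ hne (by linear_combination h1)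
  have hcast : functional (p := p) k (aeval (vals k) (map (Int.castRingHom k) C0)) =
      ((-1 : ℤ) ^ (p + 1) : ℤ) := by
    rw [← hD']
    have hv : aeval (vals k (n := m + 3)) (map (Int.castRingHom k) C0) = map (Int.castRingHom k) D := by
      rw [aeval_def, eval₂_map]
      change (eval₂Hom _ _ C0) = ((map (Int.castRingHom k)).comp (aeval (vals ℤ)).toRingHom) C0
      congr 1
      refine ringHom_ext (fun a => by simp) (fun i => ?_)
      simp [vals, apply_ite (map (Int.castRingHom k))]
    rw [hv]
    simp only [functional, LinearMap.comp_apply, AlgHom.toLinearMap_apply, Derivation.coeFn_coe,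
      Polynomial.lcoeff_apply, pderiv_map]
    have : ∀ g : MvPolynomial (Fin 2) ℤ, aeval ![(Polynomial.X : Polynomial k), 0] (map (Int.castRingHom k) g)
        = Polynomial.map (Int.castRingHom k) (aeval ![(Polynomial.X : Polynomial ℤ), 0] g) := by
      intro g
      rw [aeval_def, eval₂_map]
      change eval₂Hom _ _ g = ((Polynomial.mapRingHom (Int.castRingHom k)).comp
        (aeval ![(Polynomial.X : Polynomial ℤ), 0]).toRingHom) g
      congr 1
      refine ringHom_ext (fun a => by simp) (fun i => ?_)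
      fin_cases i <;> simp
    rw [this, Polynomial.coeff_map, eq_intCast]
  rw [hcast] at h0
  simp at h0

end

end Groth.Agent.Lib.W2Lift.Quadric
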