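import Groth.Agent.Lib.W2Lift.Basic
import Mathlib.RingTheory.Flat.FaithfullyFlat.Algebra
import Mathlib.RingTheory.EssentialFiniteness
import Mathlib.RingTheory.Polynomial.Basic
import Mathlib.RingTheory.Localization.Basic
import Mathlib.LinearAlgebra.Finsupp.LinearCombination

/-!
# Descent of liftability along faithfully flat maps

The obstruction to lifting is a finite linear system, and solvability of such a system descends
along faithfully flat maps.
-/

universe u v

open scoped TensorProduct

namespace Groth.Agent.Lib.W2Lift.Descent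

open Groth.Agent.Lib.W2Lift.Basic

noncomputable section

theorem exists_solution {A : Type u} {B : Type v} [CommRing A] [CommRing B] [Algebra A B]
    [Module.FaithfullyFlat A B] {m n : Type*} [Fintype m] [Fintype n] (M : n → m → A) (c : n → A)
    (b : m → B) (hb : ∀ k, algebraMap A B (c k) = ∑ i, algebraMap A B (M k i) * b i) :
    ∃ u : m → A, ∀ k, c k = ∑ i, M k i * u i := by
  classical
  let col : m → (n → A) := fun i k => M k i
  have hmem : c ∈ Submodule.span A (Set.range col) := by
    rw [← Submodule.Quotient.mk_eq_zero, ← Module.FaithfullyFlat.one_tmul_eq_zero_iff A ((n → A) ⧸ Submodule.span A (Set.range col))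
      (A := B)]
    have hexp : ∀ w : n → A, w = ∑ k, w k • (Pi.single k (1 : A) : n → A) := fun w => by
      ext k; simp [Pi.single_apply]
    have mv : ∀ (x : B) (r : A) (w : n → A), x ⊗ₜ[A] (r • w) = (algebraMap A B r * x) ⊗ₜ[A] w :=
      fun x r w => by rw [← TensorProduct.smul_tmul, Algebra.smul_def]
    have h1 : (1 : B) ⊗ₜ[A] c = ∑ i, b i ⊗ₜ[A] col i := by
      conv_lhs => rw [hexp c]
      have h2 : ∀ i, b i ⊗ₜ[A] col i =
          ∑ k, (algebraMap A B (M k i) * b i) ⊗ₜ[A] (Pi.single k (1 : A) : n → A) := fun i => by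
        conv_lhs => rw [hexp (col i)]
        simp only [TensorProduct.tmul_sum, mv, col]
      simp only [h2, TensorProduct.tmul_sum, mv, mul_one, hb, TensorProduct.sum_tmul]
      exact Finset.sum_comm
    have := congrArg (LinearMap.lTensor B (Submodule.span A (Set.range col)).mkQ) h1
    simp only [map_sum, LinearMap.lTensor_tmul, Submodule.mkQ_apply] at this
    rw [this]
    refine Finset.sum_eq_zero fun i _ => ?_
    rw [(Submodule.Quotient.mk_eq_zero _).2
      (Submodule.subset_span (Set.mem_range_self (f := col) i)), TensorProduct.tmul_zero]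
  obtain ⟨u, hu⟩ := (Submodule.mem_span_range_iff_exists_fun A).1 hmem
  exact ⟨u, fun k => by rw [← hu]; simp [col, mul_comm]⟩

variable {p : ℕ} [Fact p.Prime]

theorem exists_isExt_of_faithfullyFlat {A B : Type u} [CommRing A] [CommRing B] [Algebra A B]
    [Module.FaithfullyFlat A B] {B' : Type v} [CommRing B'] {πB : B' →+* B} (h : IsExt p πB)
    {P : Type u} [CommRing P] [IsNoetherianRing P] (q : P →+* A)
    (hq : ∀ a, ∃ r s, IsUnit (q s) ∧ a * q s = q r) (ψ : P →+* B')
    (hψ : πB.comp ψ = (algebraMap A B).comp q) :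
    ∃ (A' : Type u) (_ : CommRing A') (π : A' →+* A), IsExt p π := by
  classical
  have hinj : Function.Injective (algebraMap A B) := FaithfulSMul.algebraMap_injective A B
  have hpA : (p : A) = 0 := hinj (by rw [map_natCast, h.map_p, map_zero])
  have hψ' : ∀ x, πB (ψ x) = algebraMap A B (q x) := fun x => RingHom.congr_fun hψ x
  obtain ⟨t, ht⟩ : (RingHom.ker q).FG := IsNoetherian.noetherian _
  let F : Option t → P := fun i => i.elim (p : P) (fun x => (x : P))
  have hF : ∀ i, q (F i) = 0 := by
    rintro (_ | x)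
    · simp [F, hpA]
    · have : (x : P) ∈ RingHom.ker q := ht ▸ Submodule.subset_span x.2
      simpa [F] using this
  let lc : (Option t → P) →ₗ[P] P := Fintype.linearCombination P F
  have hlc : ∀ g, q (lc g) = 0 := fun g => by simp [lc, Fintype.linearCombination_apply, hF]
  have hlc_surj : ∀ x, q x = 0 → ∃ g, lc g = x := fun x hx => by
    have hle : Submodule.span P (t : Set P) ≤ Submodule.span P (Set.range F) :=
      Submodule.span_mono fun y hy => ⟨some ⟨y, hy⟩, rfl⟩
    have : x ∈ Submodule.span P (Set.range F) := by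
      refine hle ?_
      change x ∈ Ideal.span (t : Set P)
      rw [show Ideal.span (t : Set P) = RingHom.ker q from ht]
      exact RingHom.mem_ker.2 hx
    rwa [← Fintype.range_linearCombination P F] at this
  have hc : ∀ i, ∃ c, ψ (F i) = (p : B') * c := fun i =>
    h.exists_eq_mul (by rw [hψ', hF, map_zero])
  choose c hc using hc
  let b : Option t → B := fun i => i.elim 1 (fun x => πB (c (some x)))
  have hb : ∀ i, πB (c i) = b i := by
    rintro (_ | x)
    · have := hc none
      simp only [F, Option.elim_none, map_natCast] at this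
      show πB (c none) = 1
      rw [← map_one πB, h.p_mul_inj]
      rw [← this, mul_one]
    · rfl
  obtain ⟨G, hG⟩ : (LinearMap.ker lc).FG := IsNoetherian.noetherian _
  have hsol : ∀ g, lc g = 0 → ∑ i, algebraMap A B (q (g i)) * b i = 0 := fun g hg => by
    have : (p : B') * ∑ i, ψ (g i) * c i = 0 := by
      rw [Finset.mul_sum, ← map_zero ψ, ← hg]
      simp [lc, Fintype.linearCombination_apply, hc, mul_left_comm]
    rw [h.ann, map_sum] at this
    simpa [hψ', hb] using this
  obtain ⟨u, hu⟩ := exists_solution (A := A) (B := B)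
    (fun (k : Option G) i => k.elim (if i = none then 1 else 0) (fun g => q ((g : Option t → P) i)))
    (fun k => k.elim 1 (fun _ => 0)) b (by
      rintro (_ | g)
      · simp [b, apply_ite]
      · have hg : lc (g : Option t → P) = 0 := by
          rw [← LinearMap.mem_ker, ← hG]; exact Submodule.subset_span g.2
        simp [hsol _ hg])
  have hu0 : u none = 1 := by simpa using (hu none).symm
  letI : Algebra P A := q.toAlgebra
  have hsmul : ∀ (r : P) (a : A), r • a = q r * a := fun r a => Algebra.smul_def r a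
  let ev : (Option t → P) →ₗ[P] A := Fintype.linearCombination P u
  have hev : LinearMap.ker lc ≤ LinearMap.ker ev := by
    rw [← hG, Submodule.span_le]
    intro g hg
    simpa [ev, Fintype.linearCombination_apply, hsmul] using (hu (some ⟨g, hg⟩)).symm
  let K : Ideal P := (LinearMap.ker ev).map lc
  have hK : ∀ g, lc g ∈ K ↔ ev g = 0 := fun g => by
    constructor
    · rintro ⟨g', hg', hgg⟩
      have := hev (show g - g' ∈ LinearMap.ker lc by simp [hgg])
      rw [LinearMap.mem_ker, map_sub, LinearMap.mem_ker.1 hg', sub_zero] at this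
      exact this
    · exact fun hg => ⟨g, hg, rfl⟩
  let p0 : (Option t → P) := Pi.single none 1
  have hp0 : ∀ r : P, lc (r • p0) = (p : P) * r ∧ ev (r • p0) = q r := fun r => by
    simp [lc, ev, p0, F, Fintype.linearCombination_apply, Pi.single_apply, hu0, hsmul, mul_comm]
  have hpK : ∀ r : P, (p : P) * r ∈ K ↔ q r = 0 := fun r => by
    rw [← (hp0 r).1, hK, (hp0 r).2]
  let qQ : P ⧸ K →+* A := Ideal.Quotient.lift K q (by rintro x ⟨g, -, rfl⟩; exact hlc g)
  let M2 : Submonoid (P ⧸ K) := (IsUnit.submonoid A).comap qQ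
  let π : Localization M2 →+* A := IsLocalization.lift (S := Localization M2) (g := qQ) fun y : M2 => (y.2 : IsUnit (qQ y))
  have hπ : ∀ (x : P ⧸ K) (y : M2), π (IsLocalization.mk' _ x y) * qQ y = qQ x := fun x y => by
    rw [← IsLocalization.lift_eq (S := Localization M2) (g := qQ) (fun z : M2 => (z.2 : IsUnit (qQ z))),
      ← IsLocalization.lift_eq (S := Localization M2) (g := qQ) (fun z : M2 => (z.2 : IsUnit (qQ z))) x]
    rw [← map_mul, IsLocalization.mk'_spec]
  have hπ0 : ∀ (x : P ⧸ K) (y : M2), π (IsLocalization.mk' _ x y) = 0 ↔ qQ x = 0 := fun x y =>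
    ⟨fun hx => by rw [← hπ x y, hx, zero_mul],
      fun hx => (IsUnit.mul_left_eq_zero y.2).1 (by rw [hπ, hx])⟩
  refine ⟨Localization M2, inferInstance, π, ⟨fun a => ?_, le_antisymm (fun z hz => ?_) ?_,
    fun z => ?_⟩⟩
  · obtain ⟨r, s, hs, hrs⟩ := hq a
    refine ⟨IsLocalization.mk' _ (Ideal.Quotient.mk K r) (⟨Ideal.Quotient.mk K s, hs⟩ : M2), ?_⟩
    refine hs.mul_right_cancel ?_
    rw [hrs]
    exact hπ _ _
  · obtain ⟨⟨x, y⟩, rfl⟩ := IsLocalization.mk'_surjective M2 z
    rw [RingHom.mem_ker, hπ0] at hz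
    obtain ⟨x, rfl⟩ := Ideal.Quotient.mk_surjective x
    obtain ⟨g, rfl⟩ := hlc_surj x hz
    obtain ⟨r, s, hs, hrs⟩ := hq (ev g)
    have hmem : s * lc g - (p : P) * r ∈ K := by
      rw [← smul_eq_mul, ← map_smul, ← (hp0 r).1, ← map_sub, hK, map_sub, map_smul, (hp0 r).2,
        hsmul, mul_comm, hrs, sub_self]
    refine Ideal.mem_span_singleton'.2 ⟨IsLocalization.mk' _ (Ideal.Quotient.mk K r)
      (y * (⟨Ideal.Quotient.mk K s, hs⟩ : M2)), ?_⟩
    rw [← map_natCast (algebraMap (P ⧸ K) (Localization M2)) p, mul_comm,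
      IsLocalization.mul_mk'_eq_mk'_of_mul]
    refine IsLocalization.mk'_eq_of_eq ?_
    simp only [Submonoid.coe_mul]
    rw [mul_assoc, ← map_natCast (Ideal.Quotient.mk K) p, ← map_mul, ← map_mul (Ideal.Quotient.mk K),
      ← sub_eq_zero, ← mul_sub, ← map_sub, (Ideal.Quotient.eq_zero_iff_mem).2 ?_, mul_zero]
    simpa [mul_comm] using hmem
  · rw [Ideal.span_singleton_le_iff_mem, RingHom.mem_ker, map_natCast, hpA]
  · obtain ⟨⟨x, y⟩, rfl⟩ := IsLocalization.mk'_surjective M2 z
    rw [← map_natCast (algebraMap (P ⧸ K) (Localization M2)) p,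
      IsLocalization.mul_mk'_eq_mk'_of_mul, IsLocalization.mk'_eq_zero_iff, hπ0]
    obtain ⟨x, rfl⟩ := Ideal.Quotient.mk_surjective x
    constructor
    · rintro ⟨⟨m, hm⟩, hm0⟩
      obtain ⟨m, rfl⟩ := Ideal.Quotient.mk_surjective m
      rw [← map_natCast (Ideal.Quotient.mk K) p, ← map_mul, ← map_mul,
        Ideal.Quotient.eq_zero_iff_mem, mul_left_comm, hpK, map_mul] at hm0
      exact (IsUnit.mul_right_eq_zero hm).1 hm0
    · intro hx
      refine ⟨1, ?_⟩
      rw [OneMemClass.coe_one, one_mul, ← map_natCast (Ideal.Quotient.mk K) p, ← map_mul,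
        Ideal.Quotient.eq_zero_iff_mem, hpK]
      exact hx

variable (k : Type u) [Field k] [CharP k p] [PerfectRing k p]

/-- Liftability over `W₂(k)` descends along faithfully flat maps. -/
theorem isW2Liftable_of_faithfullyFlat (A B : Type u) [CommRing A] [CommRing B] [Algebra k A]
    [Algebra.EssFiniteType k A] [Algebra A B] [Module.FaithfullyFlat A B] [Algebra k B]
    [IsScalarTower k A B] (hB : FrobAlg.IsW2Liftable p k B) : FrobAlg.IsW2Liftable p k A := by
  classical
  obtain ⟨B', _, ι, π, hlift⟩ := hB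
  obtain ⟨h, hcomm⟩ := (isLift_iff k ι π).1 hlift
  obtain ⟨s, hs⟩ := Algebra.EssFiniteType.cond (R := k) (S := A)
  let q : MvPolynomial s (FrobAlg.W2 p k) →+* A :=
    MvPolynomial.eval₂Hom ((algebraMap k A).comp (FrobAlg.res p k)) (fun x => (x : A))
  choose T hT using fun x : s => h.surj (algebraMap A B (x : A))
  let ψ : MvPolynomial s (FrobAlg.W2 p k) →+* B' := MvPolynomial.eval₂Hom ι T
  have hψ : π.comp ψ = (algebraMap A B).comp q := by
    refine MvPolynomial.ringHom_ext (fun a => ?_) (fun x => by simp [ψ, q, hT])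
    have := RingHom.congr_fun hcomm a
    simp only [RingHom.comp_apply] at this ⊢
    simp [ψ, q, this, IsScalarTower.algebraMap_apply k A B]
  have hrange : ∀ a ∈ Algebra.adjoin k (s : Set A), ∃ r, q r = a := by
    intro a ha
    induction ha using Algebra.adjoin_induction with
    | mem x hx => exact ⟨MvPolynomial.X ⟨x, hx⟩, by simp [q]⟩
    | algebraMap c => exact ⟨MvPolynomial.C (teich c), by simp [q]⟩
    | add x y _ _ hx hy =>
      obtain ⟨r, rfl⟩ := hx; obtain ⟨r', rfl⟩ := hy; exact ⟨r + r', map_add _ _ _⟩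
    | mul x y _ _ hx hy =>
      obtain ⟨r, rfl⟩ := hx; obtain ⟨r', rfl⟩ := hy; exact ⟨r * r', map_mul _ _ _⟩
  have : IsNoetherianRing (FrobAlg.W2 p k) :=
    isNoetherianRing_of_surjective (WittVector p k) _ (WittVector.truncate 2)
      (WittVector.truncate_surjective p 2 k)
  obtain ⟨A', _, πA, hA⟩ := exists_isExt_of_faithfullyFlat h q (fun a => by
    obtain ⟨⟨x, y⟩, hxy⟩ := IsLocalization.surj
      ((IsUnit.submonoid A).comap (algebraMap (Algebra.adjoin k (s : Set A)) A)) a
    obtain ⟨r, hr⟩ := hrange x x.2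
    obtain ⟨r', hr'⟩ := hrange _ (y : Algebra.adjoin k (s : Set A)).2
    refine ⟨r, r', ?_, ?_⟩
    · rw [hr']; exact y.2
    · rw [hr, hr']; exact hxy) ψ hψ
  exact isW2Liftable_of_isExt k hA

end

end Groth.Agent.Lib.W2Lift.Descent
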