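import Groth.Agent.Lib.W2Lift.Basic

/-!
# Frobenius lifts and linear retractions

Frobenius lifts on a lifting `B` of `A` correspond to ring maps `B → W₂(A)` over `π`; liftings
and Frobenius lifts descend along a linear retraction.
-/

universe u v

namespace Groth.Agent.Lib.W2Lift.Frob

open Groth.Agent.Lib.W2Lift.Basic

noncomputable section

variable {p : ℕ} [Fact p.Prime]

section theta

variable {A : Type u} [CommRing A] {B : Type v} [CommRing B] {π : B →+* A}

theorem exists_theta_of_red (h : IsExt p π) (Φ : B →+* B) (hred : ∀ b, π (Φ b) = π b ^ p) :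
    ∃ θ : B →+* FrobAlg.W2 p A, (FrobAlg.res p A).comp θ = π ∧ (theta h).comp θ = Φ := by
  have hex : ∀ b : B, ∃ x : FrobAlg.W2 p A, x.coeff 0 = π b ∧ theta h x = Φ b := by
    intro b
    obtain ⟨c, hc⟩ := h.exists_eq_mul (b := Φ b - b ^ p) (by rw [map_sub, hred, map_pow, sub_self])
    refine ⟨TruncatedWittVector.mk p ![π b, π c], by simp, ?_⟩
    rw [theta_spec h _ b c (by simp) (by simp), ← hc, add_sub_cancel]
  choose f hf0 hfθ using hex
  have hext : ∀ {x y : FrobAlg.W2 p A},
      FrobAlg.res p A x = FrobAlg.res p A y → theta h x = theta h y → x = y :=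
    fun h0 hθ => eq_of_coeff_zero_of_theta h (by simpa using h0) hθ
  have hres : ∀ b, FrobAlg.res p A (f b) = π b := fun b => by rw [FrobAlg.res_apply, hf0]
  refine ⟨{ toFun := f
            map_zero' := hext (by rw [hres, map_zero, map_zero]) (by rw [hfθ, map_zero, map_zero])
            map_one' := hext (by rw [hres, map_one, map_one]) (by rw [hfθ, map_one, map_one])
            map_add' := fun a b => hext (by rw [hres, map_add, map_add, hres, hres])
              (by rw [hfθ, map_add, map_add, hfθ, hfθ])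
            map_mul' := fun a b => hext (by rw [hres, map_mul, map_mul, hres, hres])
              (by rw [hfθ, map_mul, map_mul, hfθ, hfθ]) }, RingHom.ext hres, RingHom.ext hfθ⟩

end theta

section structureMap

variable {k : Type u} [Field k] [CharP k p] [PerfectRing k p]
variable {A : Type v} [CommRing A] [Algebra k A] {B : Type v} [CommRing B]
  {ι : FrobAlg.W2 p k →+* B} {π : B →+* A}

theorem theta_comp_truncMap (h : IsExt p π) :
    (theta h).comp (WittGrp.truncMap p 2 (algebraMap k A)) = (iota h).comp (FrobAlg.sigma p k) := by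
  refine RingHom.ext fun x => ?_
  simp only [iota, RingHom.comp_apply]
  congr 1
  refine TruncatedWittVector.ext fun i => ?_
  simp [FrobAlg.sigma, frobeniusEquiv_symm_pow]

theorem res_comp_truncMap {R S : Type*} [CommRing R] [CommRing S] (f : R →+* S) :
    (FrobAlg.res p S).comp (WittGrp.truncMap p 2 f) = f.comp (FrobAlg.res p R) := by
  ext x; simp

/-- Frobenius lifts correspond to maps to `W₂(A)`. -/
theorem exists_isFrobLift_iff (hB : FrobAlg.IsLift p k A B ι π) :
    (∃ Φ : B →+* B, FrobAlg.IsFrobLift p k A B ι π Φ) ↔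
      ∃ θ : B →+* FrobAlg.W2 p A,
        (FrobAlg.res p A).comp θ = π ∧ θ.comp ι = WittGrp.truncMap p 2 (algebraMap k A) := by
  obtain ⟨h, hcomm⟩ := (isLift_iff k ι π).1 hB
  have hι : ι = iota h := eq_iota h ι hcomm
  constructor
  · rintro ⟨Φ, hΦ⟩
    obtain ⟨θ, hθ, hθΦ⟩ := exists_theta_of_red h Φ hΦ.red
    refine ⟨θ, hθ, RingHom.ext fun x => eq_of_coeff_zero_of_theta h ?_ ?_⟩
    · rw [← FrobAlg.res_apply, ← FrobAlg.res_apply, ← RingHom.comp_apply, ← RingHom.comp_apply,
        ← RingHom.comp_assoc, hθ, hcomm, res_comp_truncMap]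
    · rw [← RingHom.comp_apply, ← RingHom.comp_apply, ← RingHom.comp_assoc, hθΦ, hΦ.semi, hι,
        theta_comp_truncMap h]
  · rintro ⟨θ, hθ, hθι⟩
    refine ⟨(theta h).comp θ, ⟨hB, ?_, fun b => ?_⟩⟩
    · rw [RingHom.comp_assoc, hθι, theta_comp_truncMap h, hι]
    · rw [RingHom.comp_apply, map_theta, ← FrobAlg.res_apply, ← RingHom.comp_apply, hθ]

theorem isFLiftable_of_theta (hB : FrobAlg.IsLift p k A B ι π) (θ : B →+* FrobAlg.W2 p A)
    (hθ : (FrobAlg.res p A).comp θ = π)
    (hθι : θ.comp ι = WittGrp.truncMap p 2 (algebraMap k A)) :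
    FrobAlg.IsFLiftable p k A := by
  obtain ⟨Φ, hΦ⟩ := (exists_isFrobLift_iff hB).2 ⟨θ, hθ, hθι⟩
  exact ⟨B, inferInstance, ι, π, Φ, hΦ⟩

end structureMap

section retraction

variable {A : Type u} {B : Type v} {B' : Type v} [CommRing A] [CommRing B] [CommRing B']
  [Algebra A B] (πB : B' →+* B) (r : B →ₗ[A] A) (hr : ∀ a : A, r (algebraMap A B a) = a)

/-- The subring of the lifting lying over `A`. -/
def over : Subring B' := (algebraMap A B).range.comap πB

theorem mem_over {b : B'} : b ∈ over (A := A) πB ↔ ∃ a, algebraMap A B a = πB b := Iff.rfl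

/-- The projection of `over` to `A`. -/
def overProj : over (A := A) πB →+* A where
  toFun e := r (πB e)
  map_one' := by simp only [OneMemClass.coe_one, map_one]; simpa using hr 1
  map_zero' := by simp
  map_add' x y := by simp
  map_mul' x y := by
    obtain ⟨a, ha⟩ := x.2
    obtain ⟨b, hb⟩ := y.2
    simp only [Subring.coe_mul, map_mul, ← ha, ← hb]
    rw [← map_mul, hr, hr, hr]

/-- The elements `p b` with `r b = 0`. -/
def overIdeal (h : IsExt p πB) : Ideal (over (A := A) πB) where
  carrier := {e | ∃ b : B', (e : B') = (p : B') * b ∧ r (πB b) = 0}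
  zero_mem' := ⟨0, by simp, by simp⟩
  add_mem' := by
    rintro x y ⟨b, hb, hb0⟩ ⟨c, hc, hc0⟩
    exact ⟨b + c, by simp [hb, hc, mul_add], by simp [hb0, hc0]⟩
  smul_mem' := by
    rintro x e ⟨b, hb, hb0⟩
    obtain ⟨a, ha⟩ := x.2
    refine ⟨(x : B') * b, by simp [hb, mul_left_comm], ?_⟩
    rw [map_mul, ← ha, ← Algebra.smul_def, map_smul, hb0, smul_zero]

/-- The lifting of `A` cut out of the lifting of `B` by the retraction `r`. -/
abbrev Pushout (h : IsExt p πB) : Type v := over (A := A) πB ⧸ overIdeal πB r h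

/-- Its projection. -/
def pushoutProj (h : IsExt p πB) : Pushout πB r h →+* A :=
  Ideal.Quotient.lift _ (overProj πB r hr) fun e he => by
    obtain ⟨b, hb, -⟩ := he
    change r (πB (e : B')) = 0
    rw [hb, h.map_p_mul, map_zero]

@[simp]
theorem pushoutProj_mk (h : IsExt p πB) (e : over (A := A) πB) :
    pushoutProj πB r hr h (Ideal.Quotient.mk _ e) = r (πB e) := rfl

theorem isExt_pushout (h : IsExt p πB) : IsExt p (pushoutProj πB r hr h) := by
  have hp0 : (p : A) = 0 := by
    have := hr (p : A)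
    rw [map_natCast, h.map_p, map_zero] at this
    exact this.symm
  have key : ∀ e : over (A := A) πB,
      Ideal.Quotient.mk (overIdeal πB r h) ((p : over (A := A) πB) * e) = 0 ↔ r (πB e) = 0 := by
    intro e
    rw [Ideal.Quotient.eq_zero_iff_mem]
    constructor
    · rintro ⟨b, hb, hb0⟩
      rw [← hb0, h.p_mul_inj (by simpa using hb)]
    · exact fun he => ⟨e, by simp, he⟩
  refine ⟨fun a => ?_, le_antisymm (fun x hx => ?_) ?_, fun x => ?_⟩
  · obtain ⟨b, hb⟩ := h.surj (algebraMap A B a)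
    exact ⟨Ideal.Quotient.mk _ ⟨b, ⟨a, hb.symm⟩⟩, by simp [hb, hr]⟩
  · obtain ⟨e, rfl⟩ := Ideal.Quotient.mk_surjective x
    rw [RingHom.mem_ker, pushoutProj_mk] at hx
    obtain ⟨a, ha⟩ := e.2
    have ha0 : a = 0 := by rw [← hr a, ha, hx]
    rw [ha0, map_zero] at ha
    obtain ⟨b, hb⟩ := h.exists_eq_mul ha.symm
    obtain ⟨c, hc⟩ := h.surj (algebraMap A B (r (πB b)))
    refine Ideal.mem_span_singleton'.2
      ⟨Ideal.Quotient.mk _ ⟨c, ⟨r (πB b), hc.symm⟩⟩, ?_⟩
    rw [← map_natCast (Ideal.Quotient.mk (overIdeal πB r h)) p, ← map_mul, Ideal.Quotient.eq]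
    exact ⟨c - b, by simp [hb, mul_sub, mul_comm c], by simp [hc, hr]⟩
  · rw [Ideal.span_singleton_le_iff_mem, RingHom.mem_ker, map_natCast, hp0]
  · obtain ⟨e, rfl⟩ := Ideal.Quotient.mk_surjective x
    rw [← map_natCast (Ideal.Quotient.mk (overIdeal πB r h)) p, ← map_mul, key, pushoutProj_mk]

include hr in
theorem exists_frob_of_retraction (h : IsExt p πB) {A' : Type u} [CommRing A'] (πA : A' →+* A)
    (hA : IsExt p πA) (φ' : A' →+* B') (hφπ : πB.comp φ' = (algebraMap A B).comp πA)
    (ΦB : B' →+* B') (hred : ∀ b, πB (ΦB b) = πB b ^ p) :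
    ∃ ΦA : A' →+* A', (∀ x y, ΦB (φ' x) = φ' y → ΦA x = y) ∧ ∀ a, πA (ΦA a) = πA a ^ p := by
  have hφ : ∀ a, algebraMap A B (πA a) = πB (φ' a) := fun a =>
    (congrArg (fun g : A' →+* B => g a) hφπ).symm
  let c : A' →+* over (A := A) πB := φ'.codRestrict _ fun a => (mem_over πB).2 ⟨_, hφ a⟩
  let d : A' →+* over (A := A) πB := (ΦB.comp φ').codRestrict _ fun a =>
    (mem_over πB).2 ⟨πA a ^ p, by rw [map_pow, hφ, RingHom.comp_apply, hred]⟩
  let j : A' →+* Pushout πB r h := (Ideal.Quotient.mk _).comp c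
  have hj : (pushoutProj πB r hr h).comp j = πA := by
    ext a
    change r (πB (φ' a)) = πA a
    rw [← hφ, hr]
  let e : A' ≃+* Pushout πB r h :=
    RingEquiv.ofBijective j (hA.bijective_of_comp_eq (isExt_pushout πB r hr h) j hj)
  refine ⟨e.symm.toRingHom.comp ((Ideal.Quotient.mk _).comp d), fun x y hxy => ?_, fun a => ?_⟩
  · change e.symm (Ideal.Quotient.mk _ (d x)) = y
    rw [e.symm_apply_eq]
    change Ideal.Quotient.mk _ (d x) = Ideal.Quotient.mk _ (c y)
    congr 1
    exact Subtype.ext hxy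
  · have : ∀ z, πA (e.symm z) = pushoutProj πB r hr h z := fun z => by
      conv_rhs => rw [← e.apply_symm_apply z]
      exact (congrArg (fun g : A' →+* A => g (e.symm z)) hj).symm
    change πA (e.symm (Ideal.Quotient.mk _ (d a))) = _
    rw [this, pushoutProj_mk]
    change r (πB (ΦB (φ' a))) = _
    rw [hred, ← hφ, ← map_pow, hr]

end retraction

end

end Groth.Agent.Lib.W2Lift.Frob
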