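import Groth.Agent.Lib.W2Lift.Frob
import Groth.Agent.Lib.W2Lift.Descent
import Mathlib.RingTheory.Smooth.Flat
import Mathlib.RingTheory.Smooth.StandardSmoothOfFree
import Mathlib.RingTheory.Smooth.StandardSmoothCotangent
import Mathlib.RingTheory.Flat.Stability

/-!
# Lifting standard smooth algebras; smooth algebras are Frobenius liftable
-/

universe u v w

namespace Groth.Agent.Lib.W2Lift.Smooth

open Groth.Agent.Lib.W2Lift.Basic Groth.Agent.Lib.W2Lift.Frob Groth.Agent.Lib.W2Lift.Descent

noncomputable section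

/-- Standard smooth algebras lift along surjections with nilpotent kernel. -/
theorem exists_smooth_lift {R0 : Type u} {R : Type v} [CommRing R0] [CommRing R] (q : R0 →+* R)
    (hq : Function.Surjective q) (hnil : IsNilpotent (RingHom.ker q)) (A : Type w) [CommRing A]
    [Algebra R A] [Algebra.IsStandardSmooth R A] :
    ∃ (A0 : Type u) (_ : CommRing A0) (_ : Algebra R0 A0) (π : A0 →+* A),
      Algebra.Smooth R0 A0 ∧ Function.Surjective π ∧
        RingHom.ker π = (RingHom.ker q).map (algebraMap R0 A0) ∧
        π.comp (algebraMap R0 A0) = (algebraMap R A).comp q := by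
  classical
  obtain ⟨ι, σ, _, _, ⟨P⟩⟩ := Algebra.IsStandardSmooth.out (R := R) (S := A)
  choose v hv using fun j : σ => MvPolynomial.map_surjective (σ := ι) q hq (P.relation j)
  let e : MvPolynomial ι R0 →+* A :=
    (MvPolynomial.aeval P.val).toRingHom.comp (MvPolynomial.map q)
  have hespan : Ideal.span (Set.range v) ≤ RingHom.ker e := by
    rw [Ideal.span_le]
    rintro _ ⟨j, rfl⟩
    simp only [SetLike.mem_coe, RingHom.mem_ker, e, RingHom.comp_apply, hv]
    exact P.aeval_val_relation j
  let π : MvPolynomial ι R0 ⧸ Ideal.span (Set.range v) →+* A := Ideal.Quotient.lift _ e hespan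
  have hπmk : ∀ f, π (Ideal.Quotient.mk _ f) = MvPolynomial.aeval P.val (MvPolynomial.map q f) :=
    fun f => rfl
  have hπsurj : Function.Surjective π := fun a => by
    obtain ⟨g, rfl⟩ := P.aeval_val_surjective a
    obtain ⟨f, rfl⟩ := MvPolynomial.map_surjective (σ := ι) q hq g
    exact ⟨Ideal.Quotient.mk _ f, hπmk f⟩
  have hker : RingHom.ker π =
      (RingHom.ker q).map (algebraMap R0 (MvPolynomial ι R0 ⧸ Ideal.span (Set.range v))) := by
    refine le_antisymm (fun x hx => ?_) ?_
    · obtain ⟨f, rfl⟩ := Ideal.Quotient.mk_surjective x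
      rw [RingHom.mem_ker, hπmk] at hx
      have h1 : MvPolynomial.map q f ∈ (Ideal.span (Set.range v)).map (MvPolynomial.map q) := by
        rw [Ideal.map_span, ← Set.range_comp, show (MvPolynomial.map q) ∘ v = P.relation from funext hv,
          P.span_range_relation_eq_ker, Algebra.Generators.ker_eq_ker_aeval_val]
        exact hx
      obtain ⟨g, hg, hgf⟩ :=
        (Ideal.mem_map_iff_of_surjective _ (MvPolynomial.map_surjective q hq)).1 h1
      have h2 : f - g ∈ RingHom.ker (MvPolynomial.map (σ := ι) q) := by simp [hgf]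
      rw [MvPolynomial.ker_map] at h2
      have := Ideal.mem_map_of_mem (Ideal.Quotient.mk (Ideal.span (Set.range v))) h2
      rw [Ideal.map_map, map_sub, Ideal.Quotient.eq_zero_iff_mem.2 hg, sub_zero] at this
      exact this
    · rw [Ideal.map_le_iff_le_comap]
      intro r hr
      have : π (algebraMap R0 _ r) = algebraMap R A (q r) := by
        change e (MvPolynomial.C r) = _
        simp [e]
      rw [Ideal.mem_comap, RingHom.mem_ker, this, hr, map_zero]
  have hnilπ : IsNilpotent (RingHom.ker π) := by
    obtain ⟨n, hn⟩ := hnil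
    refine ⟨n, ?_⟩
    rw [hker, ← Ideal.map_pow, hn]
    exact Ideal.map_bot
  let pre := Algebra.PreSubmersivePresentation.naive (v := v) P.map P.map_inj
  cases nonempty_fintype σ
  have hjac : π pre.jacobian = P.jacobian := by
    rw [pre.jacobian_eq_jacobiMatrix_det, P.jacobian_eq_jacobiMatrix_det]
    rw [RingHom.map_det, RingHom.map_det, RingHom.map_det]
    congr 1
    ext i j
    simp only [RingHom.mapMatrix_apply, Matrix.map_apply]
    have hval : ∀ f : MvPolynomial ι R0,
        algebraMap pre.Ring (MvPolynomial ι R0 ⧸ Ideal.span (Set.range v)) f = Ideal.Quotient.mk _ f := by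
      intro f
      rw [Algebra.Generators.algebraMap_apply]
      have : MvPolynomial.aeval pre.val = Ideal.Quotient.mkₐ R0 (Ideal.span (Set.range v)) :=
        MvPolynomial.algHom_ext fun i => by simp [pre]
      exact AlgHom.congr_fun this f
    rw [hval, hπmk, Algebra.Generators.algebraMap_apply,
      Algebra.PreSubmersivePresentation.jacobiMatrix_naive, P.jacobiMatrix_apply,
      ← MvPolynomial.pderiv_map, hv]
  let sub : Algebra.SubmersivePresentation R0 (MvPolynomial ι R0 ⧸ Ideal.span (Set.range v)) ι σ :=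
    { pre with
      jacobian_isUnit := by
        obtain ⟨w, hw⟩ := hπsurj ↑P.jacobian_isUnit.unit⁻¹
        have h1 : π (pre.jacobian * w) = 1 := by
          rw [map_mul, hw, hjac, IsUnit.mul_val_inv]
        obtain ⟨n, hn⟩ := hnilπ
        have h2 : IsNilpotent (pre.jacobian * w - 1) := ⟨n, by
          have : (pre.jacobian * w - 1) ^ n ∈ RingHom.ker π ^ n :=
            Ideal.pow_mem_pow (by simp [h1]) n
          rwa [hn, Ideal.zero_eq_bot, Ideal.mem_bot] at this⟩
        have h3 := h2.isUnit_add_one
        rw [sub_add_cancel] at h3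
        exact isUnit_of_mul_isUnit_left h3 }
  have : Algebra.IsStandardSmooth R0 (MvPolynomial ι R0 ⧸ Ideal.span (Set.range v)) :=
    sub.isStandardSmooth
  refine ⟨MvPolynomial ι R0 ⧸ Ideal.span (Set.range v), inferInstance, inferInstance, π,
    inferInstance, hπsurj, hker, RingHom.ext fun r => ?_⟩
  change e (MvPolynomial.C r) = _
  simp [e]

variable {p : ℕ} [Fact p.Prime] {k : Type u} [Field k] [CharP k p] [PerfectRing k p]

theorem isNilpotent_ker {A : Type v} {B : Type w} [CommRing A] [CommRing B] {π : B →+* A}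
    (h : IsExt p π) : IsNilpotent (RingHom.ker π) := by
  refine ⟨2, ?_⟩
  rw [h.ker_eq, Ideal.span_singleton_pow, sq, (h.ann _).2 (by rw [map_natCast, h.map_p])]
  simp


theorem res_surjective' {R : Type*} [CommRing R] :
    Function.Surjective (FrobAlg.res p R) := fun a => ⟨teich a, by simp⟩

theorem ker_res_nilpotent {R : Type*} [CommRing R] (hR : (p : R) = 0) :
    IsNilpotent (RingHom.ker (FrobAlg.res p R)) := by
  refine ⟨2, le_bot_iff.1 ?_⟩
  rw [pow_two, Ideal.mul_le]
  intro x hx y hy
  rw [RingHom.mem_ker, FrobAlg.res_apply] at hx hy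
  rw [Ideal.mem_bot, eq_vv hy, mul_vv hR, hx, zero_pow (Fact.out : p.Prime).ne_zero, zero_mul]
  exact ext2 (by simp) (by simp)

variable (k)

/-- An étale algebra over an `F`-liftable algebra is `F`-liftable. -/
theorem isFLiftable_of_etale (A C : Type v) [CommRing A] [CommRing C] [Algebra k A] [Algebra k C]
    [Algebra A C] [IsScalarTower k A C] [Algebra.Etale A C]
    (hA : FrobAlg.IsFLiftable p k A) : FrobAlg.IsFLiftable p k C := by
  obtain ⟨B, _, ι, π, Φ, hΦ⟩ := hA
  obtain ⟨h, hcomm⟩ := (isLift_iff k ι π).1 hΦ.toIsLift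
  obtain ⟨θ, hθ, hθι⟩ := (exists_isFrobLift_iff hΦ.toIsLift).1 ⟨Φ, hΦ⟩
  have : Algebra.IsStandardSmoothOfRelativeDimension 0 A C :=
    Algebra.Etale.iff_isStandardSmoothOfRelativeDimension_zero.1 inferInstance
  have : Algebra.IsStandardSmooth A C :=
    Algebra.IsStandardSmoothOfRelativeDimension.isStandardSmooth 0
  obtain ⟨C0, _, _, πC, hsm, hsurj, hker, hc⟩ :=
    exists_smooth_lift π h.surj (isNilpotent_ker h) C
  letI : Algebra (FrobAlg.W2 p k) B := ι.toAlgebra
  letI : Algebra (FrobAlg.W2 p k) C0 := ((algebraMap B C0).comp ι).toAlgebra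
  have : IsScalarTower (FrobAlg.W2 p k) B C0 := IsScalarTower.of_algebraMap_eq' rfl
  have : Module.Flat (FrobAlg.W2 p k) B := hΦ.flat
  have : Module.Flat B C0 := Algebra.Smooth.flat B C0
  have hflat : ((algebraMap B C0).comp ι).Flat := Module.Flat.trans (FrobAlg.W2 p k) B C0
  have hCcomm : πC.comp ((algebraMap B C0).comp ι) =
      (algebraMap k C).comp (FrobAlg.res p k) := by
    rw [← RingHom.comp_assoc, hc, RingHom.comp_assoc, hcomm, ← RingHom.comp_assoc,
      ← IsScalarTower.algebraMap_eq]
  have hlift : FrobAlg.IsLift p k C C0 ((algebraMap B C0).comp ι) πC := by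
    refine ⟨hflat, hsurj, ?_, hCcomm⟩
    rw [hker, hΦ.ker_eq, Ideal.map_map]
  letI : Algebra B (FrobAlg.W2 p C) :=
    ((WittGrp.truncMap p 2 (algebraMap A C)).comp θ).toAlgebra
  letI : Algebra B C := ((algebraMap A C).comp π).toAlgebra
  let g : FrobAlg.W2 p C →ₐ[B] C :=
    { FrobAlg.res p C with
      commutes' := fun b => by
        change ((FrobAlg.res p C).comp ((WittGrp.truncMap p 2 (algebraMap A C)).comp θ)) b = _
        rw [← RingHom.comp_assoc, res_comp_truncMap, RingHom.comp_assoc, hθ]
        rfl }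
  let f : C0 →ₐ[B] C := { πC with commutes' := fun b => RingHom.congr_fun hc b }
  have hgnil : IsNilpotent (RingHom.ker (g : FrobAlg.W2 p C →+* C)) :=
    ker_res_nilpotent (by rw [← map_natCast (algebraMap k C), CharP.cast_eq_zero, map_zero])
  let θC := Algebra.FormallySmooth.liftOfSurjective f g res_surjective' hgnil
  refine isFLiftable_of_theta hlift θC.toRingHom ?_ ?_
  · ext x
    exact Algebra.FormallySmooth.liftOfSurjective_apply f g res_surjective' hgnil x
  · ext1 x
    change θC (algebraMap B C0 (ι x)) = _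
    rw [θC.commutes]
    change WittGrp.truncMap p 2 (algebraMap A C) (θ (ι x)) = _
    rw [← RingHom.comp_apply θ, hθι, ← RingHom.comp_apply, ← WittGrp.truncMap_comp,
      ← IsScalarTower.algebraMap_eq]

/-- Any lifting of a formally smooth algebra which is formally smooth over `W₂(k)` carries a
Frobenius lift. -/
theorem isFLiftable_of_formallySmooth {A B : Type v} [CommRing A] [Algebra k A] [CommRing B]
    [Algebra (FrobAlg.W2 p k) B] [Algebra.FormallySmooth (FrobAlg.W2 p k) B] (π : B →+* A)
    (hlift : FrobAlg.IsLift p k A B (algebraMap (FrobAlg.W2 p k) B) π) :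
    FrobAlg.IsFLiftable p k A := by
  letI : Algebra (FrobAlg.W2 p k) (FrobAlg.W2 p A) :=
    (WittGrp.truncMap p 2 (algebraMap k A)).toAlgebra
  letI : Algebra (FrobAlg.W2 p k) A := ((algebraMap k A).comp (FrobAlg.res p k)).toAlgebra
  let g : FrobAlg.W2 p A →ₐ[FrobAlg.W2 p k] A :=
    { FrobAlg.res p A with
      commutes' := fun b => RingHom.congr_fun (res_comp_truncMap (algebraMap k A)) b }
  let f : B →ₐ[FrobAlg.W2 p k] A :=
    { π with commutes' := fun b => RingHom.congr_fun hlift.comm b }
  have hgnil : IsNilpotent (RingHom.ker (g : FrobAlg.W2 p A →+* A)) :=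
    ker_res_nilpotent (by rw [← map_natCast (algebraMap k A), CharP.cast_eq_zero, map_zero])
  let θ := Algebra.FormallySmooth.liftOfSurjective f g res_surjective' hgnil
  refine isFLiftable_of_theta hlift θ.toRingHom ?_ ?_
  · ext x
    exact Algebra.FormallySmooth.liftOfSurjective_apply f g res_surjective' hgnil x
  · ext1 x
    exact θ.commutes x

/-- Products of extensions. -/
theorem isExt_pi {ι : Type*} (A : ι → Type v) (B : ι → Type w) [∀ i, CommRing (A i)]
    [∀ i, CommRing (B i)] (π : ∀ i, B i →+* A i) (h : ∀ i, IsExt p (π i)) :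
    IsExt p (Pi.ringHom (fun i => (π i).comp (Pi.evalRingHom B i))) := by
  refine ⟨fun a => ?_, le_antisymm (fun x hx => ?_) ?_, fun x => ?_⟩
  · choose b hb using fun i => (h i).surj (a i)
    exact ⟨b, funext hb⟩
  · have : ∀ i, ∃ c, x i = (p : B i) * c := fun i => (h i).exists_eq_mul (congrFun hx i)
    choose c hc using this
    exact Ideal.mem_span_singleton'.2 ⟨c, funext fun i => by simp [hc, mul_comm]⟩
  · rw [Ideal.span_singleton_le_iff_mem, RingHom.mem_ker]
    funext i
    simp [(h i).map_p]
  · simp only [funext_iff, Pi.mul_apply, Pi.natCast_apply, Pi.zero_apply, (h _).ann]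
    rfl

/-- Smooth algebras lift over `W₂(k)`. -/
theorem isW2Liftable_of_smooth (A : Type u) [CommRing A] [Algebra k A] [Algebra.Smooth k A] :
    FrobAlg.IsW2Liftable p k A := by
  classical
  obtain ⟨s, hs, hstd⟩ := Algebra.Smooth.exists_span_eq_top_isStandardSmooth k A
  obtain ⟨t, hts, htop⟩ := (Ideal.span_eq_top_iff_finite s).1 hs
  have hloc : ∀ x : t, ∃ (B : Type u) (_ : CommRing B) (π : B →+* Localization.Away (x : A)),
      IsExt p π := by
    intro x
    have := hstd x (hts x.2)
    obtain ⟨B, _, _, π, hsm, hsurj, hker, hc⟩ := exists_smooth_lift (FrobAlg.res p k)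
      res_surjective' (ker_res_nilpotent (CharP.cast_eq_zero k p)) (Localization.Away (x : A))
    exact ⟨B, inferInstance, π, ((isLift_iff k (algebraMap (FrobAlg.W2 p k) B) π).1
      ⟨RingHom.flat_algebraMap_iff.2 (Algebra.Smooth.flat _ _), hsurj, hker, hc⟩).1⟩
  choose B _ π hπ using hloc
  have hprod := isExt_pi (fun x : t => Localization.Away (x : A)) B π hπ
  have hflat : Module.Flat A (∀ x : t, Localization.Away (x : A)) := by
    have : ∀ x : t, Module.Flat A (Localization.Away (x : A)) := fun x =>
      IsLocalization.flat _ (Submonoid.powers (x : A))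
    exact Module.Flat.of_linearEquiv
      (DirectSum.linearEquivFunOnFintype A t (fun x : t => Localization.Away (x : A))).symm
  have : Module.FaithfullyFlat A (∀ x : t, Localization.Away (x : A)) := by
    refine Module.FaithfullyFlat.of_comap_surjective fun P => ?_
    obtain ⟨x, hxt, hx⟩ : ∃ x ∈ t, x ∉ P.asIdeal := by
      by_contra! hcon
      exact P.isPrime.ne_top (top_le_iff.1 (htop ▸ Ideal.span_le.2 hcon))
    have hdisj : Disjoint (Submonoid.powers x : Set A) (P.asIdeal : Set A) := by
      rw [Set.disjoint_left]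
      rintro _ ⟨n, rfl⟩ hn
      exact hx (P.isPrime.mem_of_pow_mem n hn)
    have hP' := IsLocalization.isPrime_of_isPrime_disjoint (Submonoid.powers x)
      (Localization.Away x) P.asIdeal P.isPrime hdisj
    let ev := Pi.evalRingHom (fun x : t => Localization.Away (x : A)) ⟨x, hxt⟩
    refine ⟨⟨Ideal.comap ev (P.asIdeal.map (algebraMap A (Localization.Away x))),
      Ideal.IsPrime.comap ev⟩, PrimeSpectrum.ext ?_⟩
    change Ideal.comap (algebraMap A _) (Ideal.comap ev _) = P.asIdeal
    rw [Ideal.comap_comap]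
    exact IsLocalization.comap_map_of_isPrime_disjoint (Submonoid.powers x)
      (Localization.Away x) P.isPrime hdisj
  exact isW2Liftable_of_faithfullyFlat k A (∀ x : t, Localization.Away (x : A))
    (isW2Liftable_of_isExt k hprod)

end

end Groth.Agent.Lib.W2Lift.Smooth
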