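import Groth.Agent.Lib.W2Lift.Smooth

/-!
# Every lifting of a formally smooth algebra carries a Frobenius lift
-/

universe u v

namespace Groth.Agent.Lib.W2Lift.SmoothFrob

open Groth.Agent.Lib.W2Lift.Basic Groth.Agent.Lib.W2Lift.Frob Groth.Agent.Lib.W2Lift.Smooth

noncomputable section

theorem isNilpotent_of_mul_eq_zero {R : Type*} [CommRing R] {I : Ideal R}
    (h : ∀ x ∈ I, ∀ y ∈ I, x * y = 0) : IsNilpotent I := by
  refine ⟨2, le_bot_iff.1 ?_⟩
  rw [pow_two, Ideal.mul_le]
  exact fun x hx y hy => Ideal.mem_bot.2 (h x hx y hy)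

variable {p : ℕ} [Fact p.Prime] (k : Type u) [Field k] [CharP k p] [PerfectRing k p]

theorem exists_isFrobLift_of_formallySmooth {A B : Type v} [CommRing A] [Algebra k A]
    [Algebra.FormallySmooth k A] [CommRing B] {ι : FrobAlg.W2 p k →+* B} {π : B →+* A}
    (hlift : FrobAlg.IsLift p k A B ι π) :
    ∃ Φ : B →+* B, FrobAlg.IsFrobLift p k A B ι π Φ := by
  obtain ⟨h, hcomm⟩ := (isLift_iff k ι π).1 hlift
  have hA : (p : A) = 0 := h.map_p
  let E : Subring (B × FrobAlg.W2 p A) :=
    RingHom.eqLocus (π.comp (RingHom.fst B _)) ((FrobAlg.res p A).comp (RingHom.snd B _))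
  let πE : E →+* A := (π.comp (RingHom.fst B _)).comp E.subtype
  let pair : FrobAlg.W2 p k →+* E :=
    (ι.prod (WittGrp.truncMap p 2 (algebraMap k A))).codRestrict E fun x => by
      change π (ι x) = FrobAlg.res p A (WittGrp.truncMap p 2 (algebraMap k A) x)
      rw [← RingHom.comp_apply, hcomm, ← RingHom.comp_apply (FrobAlg.res p A), res_comp_truncMap]
  let mk : E →+* E ⧸ Ideal.span {(p : E)} := Ideal.Quotient.mk _
  have hker : RingHom.ker (FrobAlg.res p k) ≤ RingHom.ker (mk.comp pair) := by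
    rw [ker_res, Ideal.span_singleton_le_iff_mem, RingHom.mem_ker, RingHom.comp_apply, map_natCast,
      Ideal.Quotient.eq_zero_iff_mem]
    exact Ideal.mem_span_singleton_self _
  let αQ : k →+* E ⧸ Ideal.span {(p : E)} :=
    RingHom.liftOfSurjective (FrobAlg.res p k) res_surjective' ⟨mk.comp pair, hker⟩
  have hαQ : ∀ x, αQ (FrobAlg.res p k x) = mk (pair x) := fun x =>
    RingHom.liftOfRightInverse_comp_apply _ _ _ _ x
  letI : Algebra k (E ⧸ Ideal.span {(p : E)}) := αQ.toAlgebra
  let ψ : (E ⧸ Ideal.span {(p : E)}) →+* A := Ideal.Quotient.lift _ πE fun e he => by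
    obtain ⟨c, rfl⟩ := Ideal.mem_span_singleton'.1 he
    rw [map_mul, map_natCast, hA, mul_zero]
  have hψ : ∀ e, ψ (mk e) = πE e := fun e => rfl
  let ψa : (E ⧸ Ideal.span {(p : E)}) →ₐ[k] A :=
    { ψ with
      commutes' := fun c => by
        obtain ⟨x, rfl⟩ := res_surjective' (p := p) c
        change ψ (αQ (FrobAlg.res p k x)) = _
        rw [hαQ, hψ]
        exact RingHom.congr_fun hcomm x }
  have hψsurj : Function.Surjective ψa := fun a => by
    obtain ⟨b, hb⟩ := h.surj a
    exact ⟨mk ⟨(b, teich a), by simp [E, hb]⟩, hb⟩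
  have hψnil : IsNilpotent (RingHom.ker (ψa : (E ⧸ Ideal.span {(p : E)}) →+* A)) := by
    refine isNilpotent_of_mul_eq_zero fun x hx y hy => ?_
    obtain ⟨⟨⟨b, w⟩, he⟩, rfl⟩ := Ideal.Quotient.mk_surjective x
    obtain ⟨⟨⟨b', w'⟩, he'⟩, rfl⟩ := Ideal.Quotient.mk_surjective y
    change π b = 0 at hx
    change π b' = 0 at hy
    have hw : FrobAlg.res p A w = 0 := by rw [← hx]; exact he.symm
    have hw' : FrobAlg.res p A w' = 0 := by rw [← hy]; exact he'.symm
    rw [FrobAlg.res_apply] at hw hw'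
    have h0 : (⟨(b, w), he⟩ : E) * ⟨(b', w'), he'⟩ = 0 := by
      refine Subtype.ext (Prod.ext (h.mul_eq_zero hx hy) ?_)
      change w * w' = 0
      rw [eq_vv hw', mul_vv hA, hw, zero_pow (Fact.out : p.Prime).ne_zero, zero_mul]
      exact ext2 (by simp) (by simp)
    rw [← map_mul, h0, map_zero]
  let s : A →ₐ[k] (E ⧸ Ideal.span {(p : E)}) :=
    Algebra.FormallySmooth.liftOfSurjective (AlgHom.id k A) ψa hψsurj hψnil
  have hs : ∀ a, ψ (s a) = a := fun a =>
    Algebra.FormallySmooth.liftOfSurjective_apply (AlgHom.id k A) ψa hψsurj hψnil a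
  let E' : Subring E := s.toRingHom.range.comap mk
  let f : E' →+* B := ((RingHom.fst B _).comp E.subtype).comp E'.subtype
  have hf : Function.Bijective f := by
    constructor
    · rw [injective_iff_map_eq_zero]
      rintro ⟨⟨⟨b, w⟩, he⟩, hmem⟩ hb
      change b = 0 at hb
      subst hb
      obtain ⟨a, ha : s a = mk _⟩ := hmem
      have ha0 : a = 0 := by
        rw [← hs a, ha, hψ]
        exact map_zero π
      rw [ha0, map_zero, eq_comm, Ideal.Quotient.eq_zero_iff_mem] at ha
      obtain ⟨⟨⟨d, v⟩, hd⟩, hdeq⟩ := Ideal.mem_span_singleton'.1 ha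
      have h1 : d * (p : B) = 0 := congrArg (fun z : E => z.1.1) hdeq
      have h2 : v * (p : FrobAlg.W2 p A) = w := congrArg (fun z : E => z.1.2) hdeq
      rw [mul_comm, h.ann] at h1
      have hv : v.coeff 0 = 0 := by
        rw [← FrobAlg.res_apply, ← h1]
        exact hd.symm
      have hw : w = 0 := by
        rw [← h2, mul_comm, p_mul hA, hv, zero_pow (Fact.out : p.Prime).ne_zero]
        exact ext2 (by simp) (by simp)
      subst hw
      rfl
    · intro b
      obtain ⟨e, he⟩ := Ideal.Quotient.mk_surjective (s (π b))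
      have hπe : π e.1.1 = π b := by
        have := congrArg ψ he
        rw [hs] at this
        exact this
      obtain ⟨d, hd⟩ := h.exists_eq_mul (b := b - e.1.1) (by rw [map_sub, hπe, sub_self])
      let de : E := ⟨(d, teich (π d)), by simp [E]⟩
      refine ⟨⟨e + (p : E) * de, ⟨π b, ?_⟩⟩, ?_⟩
      · change s (π b) = mk (e + (p : E) * de)
        rw [← he, map_add, map_mul, (Ideal.Quotient.eq_zero_iff_mem).2
          (Ideal.mem_span_singleton_self (p : E)), zero_mul, add_zero]
      · change e.1.1 + (p : B) * d = b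
        rw [← hd, add_sub_cancel]
  let eq := RingEquiv.ofBijective f hf
  refine (exists_isFrobLift_iff hlift).2
    ⟨((RingHom.snd B _).comp E.subtype).comp (E'.subtype.comp eq.symm.toRingHom), ?_, ?_⟩
  · ext b
    have h1 : f (eq.symm b) = b := eq.apply_symm_apply b
    conv_rhs => rw [← h1]
    exact ((eq.symm b).1.2).symm
  · ext1 x
    have hmem : pair x ∈ E' := ⟨algebraMap k A (FrobAlg.res p k x), by
      change s _ = mk (pair x)
      rw [s.commutes]
      exact hαQ x⟩
    have : eq.symm (ι x) = ⟨pair x, hmem⟩ := eq.symm_apply_eq.2 rfl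
    change (eq.symm (ι x)).1.1.2 = _
    rw [this]
    rfl

theorem isFLiftable_of_smooth (A : Type u) [CommRing A] [Algebra k A] [Algebra.Smooth k A] :
    FrobAlg.IsFLiftable p k A := by
  obtain ⟨B, _, ι, π, hlift⟩ := isW2Liftable_of_smooth (p := p) k A
  obtain ⟨Φ, hΦ⟩ := exists_isFrobLift_of_formallySmooth k hlift
  exact ⟨B, inferInstance, ι, π, Φ, hΦ⟩

end

end Groth.Agent.Lib.W2Lift.SmoothFrob
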